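import Groth.Agent.H23.StalkIdeal
import Groth.Agent.QCoh.Stalk
import Groth.Agent.KFlatLib.Scheme.Pullback
import Groth.Prelude.Def_BlowUp2
import Mathlib.RingTheory.Flat.TorsionFree
import Mathlib.RingTheory.Flat.Stability

/-!
# Flat modules have no torsion along an effective Cartier divisor
-/

set_option autoImplicit false
set_option backward.isDefEq.respectTransparency false
set_option backward.isDefEq.respectTransparency.types false
set_option linter.style.haveILetI false

universe u

open CategoryTheory CategoryTheory.Limits AlgebraicGeometry TopologicalSpace Opposite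

namespace Groth.Agent.StrictFlat17

variable {X Y : Scheme.{u}}

/-- A section killed by a power of an effective Cartier ideal is zero if the module is flat along the divisor. -/
theorem eq_zero_of_killed {E : X.IdealSheafData} (hE : BlowUp.IsEffCartierIdeal E) (M : X.Modules)
    (hM : ∀ x ∈ E.support, FlatMod.IsFlatAt M x) (V : X.affineOpens) (m : M.presheaf.obj (op V.1))
    (h : BlowUp.KilledByPowerNear E M V m) : m = 0 := by
  obtain ⟨n, hn⟩ := h
  refine TopCat.Presheaf.section_ext ⟨M.presheaf, M.isSheaf⟩ V.1 _ _ fun x hx => ?_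
  obtain ⟨W, hxW, f, hf, hEW⟩ := hE x
  let fx := X.presheaf.germ W.1 x hxW f
  have hsp : CDivEq.stk E V hx = Ideal.span {fx} := by
    rw [← H23.StalkIdeal.sI_eq, H23.StalkIdeal.sI_eq E W hxW, CDivEq.stk, hEW, Ideal.map_span,
      Set.image_singleton]
  have hle : CDivEq.stk E V hx ^ n ≤
      LinearMap.ker ((LinearMap.toSpanSingleton (X.presheaf.stalk x) (M.presheaf.stalk x))
        (M.presheaf.germ V.1 x hx m)) := by
    rw [CDivEq.stk, ← Ideal.map_pow, Ideal.map_le_iff_le_comap]
    intro a ha
    show X.presheaf.germ V.1 x hx a • M.presheaf.germ V.1 x hx m = 0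
    have ha' : a ∈ (E ^ n).ideal V := by rw [Scheme.IdealSheafData.ideal_pow]; exact ha
    rw [← QCoh.germ_smul' M hx, hn a ha', map_zero]
  rw [hsp, Ideal.span_singleton_pow, Ideal.span_singleton_le_iff_mem] at hle
  have h0 : fx ^ n • M.presheaf.germ V.1 x hx m = 0 := hle
  show M.presheaf.germ V.1 x hx m = M.presheaf.germ V.1 x hx 0
  rw [map_zero]
  have hreg : IsSMulRegular (M.presheaf.stalk x) (fx ^ n) := by
    by_cases hu : IsUnit fx
    · exact (hu.pow n).isSMulRegular _
    · have hxs : x ∈ E.support := by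
        refine (Scheme.IdealSheafData.mem_support_iff_of_mem (U := W) hxW).2 ?_
        rw [hEW, Scheme.zeroLocus_span, Scheme.mem_zeroLocus_iff]
        intro g hg
        rw [Set.mem_singleton_iff.1 hg]
        exact fun hb => hu ((Scheme.mem_basicOpen _ _ _ hxW).1 hb)
      haveI : Module.Flat (X.presheaf.stalk x) (M.presheaf.stalk x) := hM x hxs
      letI := X.presheaf.algebra_section_stalk ⟨x, hxW⟩
      haveI := W.2.isLocalization_stalk ⟨x, hxW⟩
      have hfx : fx ∈ nonZeroDivisors (X.presheaf.stalk x) :=
        IsLocalization.nonZeroDivisors_le_comap (W.2.primeIdealOf ⟨x, hxW⟩).asIdeal.primeCompl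
          (X.presheaf.stalk x) hf
      exact Module.Flat.isSMulRegular_of_nonZeroDivisors (pow_mem hfx n)
  exact hreg (by show fx ^ n • _ = fx ^ n • (0 : M.presheaf.stalk x); rw [h0, smul_zero])

theorem killed_zero (E : X.IdealSheafData) (M : X.Modules) (V : X.affineOpens) :
    BlowUp.KilledByPowerNear E M V (0 : M.presheaf.obj (op V.1)) :=
  ⟨0, fun a _ => smul_zero a⟩

/-- Pullback preserves flatness at a point. -/
theorem isFlatAt_pullback (b : Y ⟶ X) (F : X.Modules) (y : Y) (h : FlatMod.IsFlatAt F (b y)) :
    FlatMod.IsFlatAt ((Scheme.Modules.pullback b).obj F) y := by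
  letI : Algebra (X.presheaf.stalk (b y)) (Y.presheaf.stalk y) := (b.stalkMap y).hom.toAlgebra
  haveI : Module.Flat (X.presheaf.stalk (b y)) (F.presheaf.stalk (b y)) := h
  let e : ((Scheme.Modules.pullback b).obj F).presheaf.stalk y ≃ₗ[Y.presheaf.stalk y]
      TensorProduct (X.presheaf.stalk (b y)) (Y.presheaf.stalk y) (F.presheaf.stalk (b y)) :=
    ((KFlatLib.stalkPullbackIso b y).app F).toLinearEquiv
  exact Module.Flat.of_linearEquiv e

/-- A module flat along the centre is its own strict transform. -/
theorem isStrictTransform_id {I : X.IdealSheafData} (b : Y ⟶ X) (hE : BlowUp.IsEffCartierIdeal (I.comap b))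
    (F : X.Modules) (hF : ∀ x ∈ I.support, FlatMod.IsFlatAt F x) :
    BlowUp.IsStrictTransform b I F ((Scheme.Modules.pullback b).obj F) (𝟙 _) := by
  refine ⟨inferInstance, fun V m => ⟨fun hm => ?_, fun hk => ?_⟩⟩
  · have : m = 0 := hm
    rw [this]
    exact killed_zero _ _ V
  · show m = 0
    refine eq_zero_of_killed hE _ (fun x hx => isFlatAt_pullback b F x (hF _ ?_)) V m hk
    rw [Scheme.IdealSheafData.support_comap] at hx
    exact hx

end Groth.Agent.StrictFlat17

namespace Groth.Agent.StrictFlat17

variable {X : Scheme.{u}}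

/-- A morphism of modules injective on affine opens is a monomorphism. -/
theorem mono_of_affine {M N : X.Modules} (π : M ⟶ N)
    (h : ∀ (V : X.affineOpens) (m : M.presheaf.obj (op V.1)), π.app V.1 m = 0 → m = 0) : Mono π := by
  have hinj : ∀ (U : X.Opens) (m : M.presheaf.obj (op U)), π.app U m = 0 → m = 0 := by
    intro U m hm
    refine TopCat.Presheaf.section_ext ⟨M.presheaf, M.isSheaf⟩ U _ _ fun x hx => ?_
    obtain ⟨_, ⟨V, hV, rfl⟩, hxV, hVU'⟩ := X.isBasis_affineOpens.exists_subset_of_mem_open hx U.2
    have hVU : V ≤ U := hVU'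
    have h0 : M.presheaf.map (homOfLE hVU).op m = 0 := by
      refine h ⟨V, hV⟩ _ ?_
      have := congr($((Scheme.Modules.Hom.mapPresheaf π).naturality (homOfLE hVU).op) m)
      refine this.trans ?_
      show N.presheaf.map _ (π.app U m) = 0
      rw [hm, map_zero]
    show M.presheaf.germ U x hx m = M.presheaf.germ U x hx 0
    exact (M.presheaf.germ_res_apply (homOfLE hVU) x hxV m).symm.trans (((congrArg _ h0).trans (map_zero _)).trans (map_zero _).symm)
  refine ⟨fun {Z} g k hgk => Scheme.Modules.hom_ext _ _ fun U => ?_⟩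
  ext s
  have hs : π.app U (g.app U s) = π.app U (k.app U s) := congr($(congrArg (fun q => Scheme.Modules.Hom.app q U) hgk) s)
  exact sub_eq_zero.1 (hinj U _ (by rw [map_sub, hs, sub_self]))

end Groth.Agent.StrictFlat17
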